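import Mathlib

/-!
Facts on three generators of `SL(2,5)`, by enumeration.
-/

set_option autoImplicit false
set_option maxRecDepth 4000

namespace CfsgLib.DivisionFinite

open Matrix

local notation "S5" => Matrix.SpecialLinearGroup (Fin 2) (ZMod 5)

/-- The upper unitriangular generator. -/
def g₀ : S5 := ⟨!![1, 1; 0, 1], by decide +kernel⟩
/-- The diagonal generator. -/
def k₀ : S5 := ⟨!![2, 0; 0, 3], by decide +kernel⟩
/-- The Weyl element. -/
def s₀ : S5 := ⟨!![0, 1; 4, 0], by decide +kernel⟩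
/-- The central involution. -/
def m₀ : S5 := ⟨!![4, 0; 0, 4], by decide +kernel⟩

theorem relations : g₀ ^ 5 = 1 ∧ g₀ ≠ 1 ∧ m₀ * m₀ = 1 ∧ m₀ ≠ 1 ∧ k₀ * k₀ = m₀ ∧ s₀ * s₀ = m₀ ∧
    k₀ * g₀ = g₀ ^ 4 * k₀ ∧ s₀ * k₀ = m₀ * k₀ * s₀ ∧ (s₀ * g₀) ^ 3 = 1 ∧ s₀ * g₀ ≠ 1 ∧
    g₀ ^ 2 * s₀ * g₀ ^ 3 * s₀⁻¹ * g₀ ^ 2 * s₀⁻¹ = k₀ := by
  decide +kernel

/-- An element of `SL(2,5)` from its entries. -/
def ofEntries (a b c d : ZMod 5) : S5 :=
  if h : a * d - b * c = 1 then ⟨!![a, b; c, d], by rw [Matrix.det_fin_two_of]; exact h⟩ else 1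

private lemma forall_of_entries {P : S5 → Prop} (h : ∀ a b c d : ZMod 5, P (ofEntries a b c d))
    (X : S5) : P X := by
  have hd : X 0 0 * X 1 1 - X 0 1 * X 1 0 = 1 := by
    have := X.det_coe
    rwa [Matrix.det_fin_two] at this
  have he : ofEntries (X 0 0) (X 0 1) (X 1 0) (X 1 1) = X := by
    rw [show ofEntries (X 0 0) (X 0 1) (X 1 0) (X 1 1) = _ from dif_pos hd]
    ext i j
    fin_cases i <;> fin_cases j <;> rfl
  exact he ▸ h _ _ _ _

theorem inverting (X : S5) (h : X * g₀ = g₀ ^ 4 * X) (h2 : X * X = m₀) :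
    ∃ j : Fin 5, g₀ ^ (j : ℕ) * X = k₀ * g₀ ^ (j : ℕ) ∨ g₀ ^ (j : ℕ) * X = m₀ * k₀ * g₀ ^ (j : ℕ) := by
  revert h h2
  revert X
  exact forall_of_entries (by decide +kernel)

theorem inverting_comm (X : S5) (h : X * g₀ = g₀ ^ 4 * X) (h2 : X * k₀ = k₀ * X) :
    X = k₀ ∨ X = m₀ * k₀ := by
  revert h h2
  revert X
  exact forall_of_entries (by decide +kernel)

theorem weyl_one (X : S5) (h : X * X = m₀) (h2 : X * k₀ = m₀ * k₀ * X) (h3 : (X * g₀) ^ 3 = 1) :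
    X = s₀ := by
  revert h h2 h3
  revert X
  exact forall_of_entries (by decide +kernel)

theorem weyl_two (X : S5) (h : X * X = m₀) (h2 : X * k₀ = m₀ * k₀ * X) (h3 : (X * g₀ ^ 2) ^ 3 = 1) :
    X = k₀ * s₀ := by
  revert h h2 h3
  revert X
  exact forall_of_entries (by decide +kernel)

theorem centralizer_pair (X : S5) (h : X * g₀ = g₀ * X) (h2 : X * s₀ = s₀ * X) : X = 1 ∨ X = m₀ := by
  revert h h2
  revert X
  exact forall_of_entries (by decide +kernel)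

theorem eq_one_or_m₀ (X : S5) (h : X * X = 1) : X = 1 ∨ X = m₀ := by
  revert h
  revert X
  exact forall_of_entries (by decide +kernel)

end CfsgLib.DivisionFinite
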